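import Mathlib
import Groth.Agent.RGFlatLib.CommonTarget
import Groth.Agent.StrictModLib.Extend

/-!
# Quasi-dominations and their common refinements
-/

set_option autoImplicit false
universe u
open CategoryTheory CategoryTheory.Limits AlgebraicGeometry TopologicalSpace

namespace QuasiDomLib

variable {S X Y : Scheme.{u}}

theorem dominant_of_comp {U W : Scheme.{u}} (l : U ⟶ W) (i : W ⟶ X) [h : IsSchemeTheoreticallyDominant (l ≫ i)] :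
    IsSchemeTheoreticallyDominant i :=
  ⟨le_bot_iff.mp (h.ker_eq_bot ▸ l.le_ker_comp i)⟩

theorem dominant_left {U W : Scheme.{u}} (l : U ⟶ W) (o : W ⟶ X) [IsOpenImmersion o]
    [IsSchemeTheoreticallyDominant (l ≫ o)] [QuasiCompact (l ≫ o)] : IsSchemeTheoreticallyDominant l := by
  haveI : IsIso (pullback.lift (𝟙 U) l (Category.id_comp (l ≫ o))) := by
    refine ⟨pullback.fst (l ≫ o) o, pullback.lift_fst _ _ _, ?_⟩
    ext
    · rw [Category.assoc, pullback.lift_fst, Category.comp_id, Category.id_comp]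
    · rw [← cancel_mono o]
      simp only [Category.assoc, Category.id_comp, pullback.lift_snd_assoc, pullback.condition]
  have e : l = pullback.lift (𝟙 U) l (Category.id_comp (l ≫ o)) ≫ pullback.snd (l ≫ o) o :=
    (pullback.lift_snd _ _ _).symm
  rw [e]
  infer_instance

theorem isClosed_range_graph (q : X ⟶ S) [IsSeparated q] (r : Y ⟶ S) {W : Scheme.{u}} (i : W ⟶ X) (p : W ⟶ Y)
    [IsProper p] (h : i ≫ q = p ≫ r) : IsClosed (Set.range fun w => pullback.lift i p h w) := by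
  haveI : IsProper (pullback.lift i p h ≫ pullback.snd q r) := by
    rw [pullback.lift_snd]; infer_instance
  haveI := IsProper.of_comp (pullback.lift i p h) (pullback.snd q r)
  exact (pullback.lift i p h).isClosedMap.isClosed_range

theorem exists_pair {U X₁ X₂ : Scheme.{u}} [CompactSpace S] [QuasiSeparatedSpace S]
    (g₁ : X₁ ⟶ S) (g₂ : X₂ ⟶ S)
    [IsSeparated g₁] [QuasiCompact g₁] [LocallyOfFiniteType g₁]
    [IsSeparated g₂] [QuasiCompact g₂] [LocallyOfFiniteType g₂]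
    (j₁ : U ⟶ X₁) (j₂ : U ⟶ X₂) [IsOpenImmersion j₁] [IsOpenImmersion j₂] [CompactSpace U]
    (h : j₁ ≫ g₁ = j₂ ≫ g₂) :
    ∃ (X : Scheme.{u}) (q : X ⟶ S) (_ : IsSeparated q) (_ : QuasiCompact q) (_ : LocallyOfFiniteType q)
      (j : U ⟶ X) (_ : IsOpenImmersion j) (_ : IsSchemeTheoreticallyDominant j) (_ : j ≫ q = j₁ ≫ g₁),
      (∃ (W : X.Opens) (l : U ⟶ (W : Scheme.{u})) (p : (W : Scheme.{u}) ⟶ X₁) (_ : W.ι ≫ q = p ≫ g₁),
        l ≫ W.ι = j ∧ l ≫ p = j₁ ∧ IsProper p) ∧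
      (∃ (W : X.Opens) (l : U ⟶ (W : Scheme.{u})) (p : (W : Scheme.{u}) ⟶ X₂) (_ : W.ι ≫ q = p ≫ g₂),
        l ≫ W.ι = j ∧ l ≫ p = j₂ ∧ IsProper p) := by
  haveI : IsSeparated (j₁ ≫ g₁) := inferInstance
  haveI : QuasiCompact (j₁ ≫ g₁) := inferInstance
  obtain ⟨X₀, q₀, _, _, _, 𝓘₁, 𝓘₂, Y₁, Y₂, b₁, b₂, o₁, o₂, u₁, u₂, hb₁, ha₁, hb₂, ha₂, _, _, ho₁, ho₂, hu₁, hu₂, huo⟩ :=
    RGFlatLib.exists_common_target (j₁ ≫ g₁) g₁ g₂ j₁ j₂ rfl h.symm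
  haveI := BlowUpLib.isProper_of_isBlowUp hb₁ ha₁.1
  haveI := BlowUpLib.isProper_of_isBlowUp hb₂ ha₂.1
  let σ : U ⟶ X₀ := u₁ ≫ o₁
  have hσq : σ ≫ q₀ = j₁ ≫ g₁ := by simp only [σ, Category.assoc, ho₁, reassoc_of% hu₁]
  haveI : IsImmersion u₁ := by
    haveI : IsImmersion (u₁ ≫ b₁) := by rw [hu₁]; infer_instance
    exact IsImmersion.of_comp u₁ b₁
  haveI : QuasiCompact (σ ≫ q₀) := by rw [hσq]; infer_instance
  haveI : QuasiCompact σ := QuasiCompact.of_comp σ q₀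
  haveI : IsSchemeTheoreticallyDominant σ.toImage := ModPairLib.isDominant_toImage
  refine ⟨σ.image, σ.imageι ≫ q₀, inferInstance, inferInstance, inferInstance, σ.toImage, inferInstance,
    inferInstance, by rw [Scheme.Hom.toImage_imageι_assoc, hσq], ?_, ?_⟩
  all_goals
    first
    | exact side σ q₀ g₁ o₁ b₁ u₁ j₁ rfl ho₁ hu₁
    | exact side σ q₀ g₂ o₂ b₂ u₂ j₂ huo.symm ho₂ hu₂
where
  side {U X' X₀ Z : Scheme.{u}} (σ : U ⟶ X₀) [QuasiCompact σ] (q₀ : X₀ ⟶ S) (g : Z ⟶ S) (o : X' ⟶ X₀)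
      [IsOpenImmersion o] (b : X' ⟶ Z) [IsProper b] (u : U ⟶ X') (j : U ⟶ Z) (hσ : u ≫ o = σ)
      (ho : o ≫ q₀ = b ≫ g) (hu : u ≫ b = j) :
      ∃ (W : σ.image.Opens) (l : U ⟶ (W : Scheme.{u})) (p : (W : Scheme.{u}) ⟶ Z)
        (_ : W.ι ≫ σ.imageι ≫ q₀ = p ≫ g), l ≫ W.ι = σ.toImage ∧ l ≫ p = j ∧ IsProper p := by
    let W := σ.imageι ⁻¹ᵁ o.opensRange
    have hr : Set.range σ.toImage ⊆ Set.range W.ι := by
      rw [Scheme.Opens.range_ι]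
      rintro _ ⟨z, rfl⟩
      show σ.imageι (σ.toImage z) ∈ o.opensRange
      rw [← Scheme.Hom.comp_apply, Scheme.Hom.toImage_imageι, ← hσ]
      exact ⟨u z, rfl⟩
    let l := IsOpenImmersion.lift W.ι σ.toImage hr
    let p₀ : (W : Scheme.{u}) ⟶ X' := (σ.imageι ∣_ o.opensRange) ≫ o.isoOpensRange.inv
    have hp₀ : p₀ ≫ o = W.ι ≫ σ.imageι := by
      simp only [p₀, Category.assoc, Scheme.Hom.isoOpensRange_inv_comp, morphismRestrict_ι]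
      rfl
    refine ⟨W, l, p₀ ≫ b, ?_, IsOpenImmersion.lift_fac _ _ _, ?_, inferInstance⟩
    · rw [Category.assoc, ← ho, reassoc_of% hp₀]
    · rw [← hu, ← Category.assoc]
      congr 1
      rw [← cancel_mono o, Category.assoc, hp₀, IsOpenImmersion.lift_fac_assoc, Scheme.Hom.toImage_imageι, hσ]

theorem isNoetherian_of_finiteType [IsNoetherian S] (q : X ⟶ S) [QuasiCompact q] [LocallyOfFiniteType q] :
    IsNoetherian X := by
  haveI : IsLocallyNoetherian X := LocallyOfFiniteType.isLocallyNoetherian q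
  haveI : CompactSpace X := QuasiCompact.compactSpace_of_compactSpace q
  exact { }

theorem exists_extend_proper {U : Scheme.{u}} [IsNoetherian X] (j : U ⟶ X) [IsOpenImmersion j] (E : U.Modules)
    (hE : FlatMod.IsFinLocFree E) :
    ∃ (X' : Scheme.{u}) (π : X' ⟶ X) (j' : U ⟶ X'), IsProper π ∧ IsOpenImmersion j' ∧ QuasiCompact j' ∧
      IsSchemeTheoreticallyDominant j' ∧ j' ≫ π = j ∧
      ∃ E' : X'.Modules, FlatMod.IsFinLocFree E' ∧ Nonempty ((Scheme.Modules.pullback j').obj E' ≅ E) := by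
  obtain ⟨X', π, j', hπ, h1, h2, h3, h4, h5⟩ := StrictModLib.exists_extend_finLocFree @IsProper
    (fun A B _ b I hb => BlowUpLib.isProper_of_isBlowUp hb (fun V => by
      haveI : IsNoetherianRing Γ(B, V.1) := IsLocallyNoetherian.component_noetherian V
      exact IsNoetherian.noetherian _))
    (fun A B _ i hi => inferInstance) j (fun _ : PUnit.{1} => E) (fun _ => hE)
  exact ⟨X', π, j', hπ, h1, h2, h3, h4, h5 PUnit.unit⟩

theorem isIso_restrict_of_section {U X' : Scheme.{u}} (π : X' ⟶ X) [IsSeparated π] (j' : U ⟶ X') [QuasiCompact j']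
    [IsSchemeTheoreticallyDominant j'] (j : U ⟶ X) [IsOpenImmersion j] (h : j' ≫ π = j) :
    IsIso (π ∣_ j.opensRange) := by
  have hk : j'.imageι.ker = ⊥ := le_bot_iff.mp (by
    have := j'.toImage.le_ker_comp j'.imageι
    rwa [Scheme.Hom.toImage_imageι, IsSchemeTheoreticallyDominant.ker_eq_bot j'] at this)
  haveI : IsIso j'.imageι := IsClosedImmersion.isIso_of_ker_eq j'.imageι (𝟙 X') j'.imageι (Category.comp_id _)
    (hk.trans (Scheme.Hom.ker_eq_bot_of_isIso _).symm)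
  have hiso := RGFlatLib.isIso_image_of_section j' π j h
  rw [morphismRestrict_comp] at hiso
  exact @IsIso.of_isIso_comp_left _ _ _ _ _ (j'.imageι ∣_ π ⁻¹ᵁ j.opensRange) (π ∣_ j.opensRange) _ hiso

theorem exists_modification (f : X ⟶ S) [IsNoetherian S] [QuasiCompact f] [LocallyOfFiniteType f]
    (U : X.Opens) (E : (U : Scheme.{u}).Modules) (hE : FlatMod.IsFinLocFree E) :
    ∃ (X' : Scheme.{u}) (π : X' ⟶ X) (E' : X'.Modules), IsProper π ∧ IsIso (π ∣_ U) ∧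
      IsSchemeTheoreticallyDominant (π ⁻¹ᵁ U).ι ∧ FlatMod.IsFinLocFree E' ∧
      Nonempty ((Scheme.Modules.pullback (π ⁻¹ᵁ U).ι).obj E' ≅ (Scheme.Modules.pullback (π ∣_ U)).obj E) := by
  haveI := isNoetherian_of_finiteType f
  obtain ⟨X', π, j', _, _, _, _, hj', E', hE', ⟨e⟩⟩ := exists_extend_proper U.ι E hE
  haveI hiso : IsIso (π ∣_ U) := by
    have := isIso_restrict_of_section π j' U.ι hj'
    rwa [Scheme.Opens.opensRange_ι] at this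
  have hr : Set.range j' ⊆ Set.range (π ⁻¹ᵁ U).ι := by
    rw [Scheme.Opens.range_ι]
    rintro _ ⟨z, rfl⟩
    show π (j' z) ∈ U
    rw [← Scheme.Hom.comp_apply, hj']
    exact z.2
  let l := IsOpenImmersion.lift (π ⁻¹ᵁ U).ι j' hr
  have hl : l ≫ (π ⁻¹ᵁ U).ι = j' := IsOpenImmersion.lift_fac _ _ _
  haveI : IsSchemeTheoreticallyDominant (l ≫ (π ⁻¹ᵁ U).ι) := by rw [hl]; infer_instance
  have hlπ : l ≫ (π ∣_ U) = 𝟙 _ := by
    rw [← cancel_mono U.ι, Category.assoc, morphismRestrict_ι, reassoc_of% hl, hj', Category.id_comp]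
  have hl' : (π ∣_ U) ≫ j' = (π ⁻¹ᵁ U).ι := by
    have : (π ∣_ U) ≫ l = 𝟙 _ := by
      rw [← cancel_mono (π ∣_ U), Category.assoc, hlπ, Category.comp_id, Category.id_comp]
    rw [← hl, ← Category.assoc, this, Category.id_comp]
  exact ⟨X', π, E', inferInstance, hiso, dominant_of_comp l _, hE',
    ⟨(Scheme.Modules.pullbackCongr hl'.symm).app E' ≪≫ ((Scheme.Modules.pullbackComp (π ∣_ U) j').app E').symm ≪≫
      (Scheme.Modules.pullback (π ∣_ U)).mapIso e⟩⟩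

theorem exists_pair_extending {U X₁ X₂ : Scheme.{u}} [IsNoetherian S] (p₁ : X₁ ⟶ S) (p₂ : X₂ ⟶ S)
    [IsSeparated p₁] [QuasiCompact p₁] [LocallyOfFiniteType p₁]
    [IsSeparated p₂] [QuasiCompact p₂] [LocallyOfFiniteType p₂]
    (j₁ : U ⟶ X₁) (j₂ : U ⟶ X₂) [IsOpenImmersion j₁] [IsOpenImmersion j₂] (hj : j₁ ≫ p₁ = j₂ ≫ p₂)
    (E : U.Modules) (hE : FlatMod.IsFinLocFree E) :
    ∃ (X : Scheme.{u}) (p : X ⟶ S) (k : U ⟶ X) (E' : X.Modules),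
      IsSeparated p ∧ QuasiCompact p ∧ LocallyOfFiniteType p ∧ IsOpenImmersion k ∧ QuasiCompact k ∧
      IsSchemeTheoreticallyDominant k ∧ k ≫ p = j₁ ≫ p₁ ∧ FlatMod.IsFinLocFree E' ∧
      Nonempty ((Scheme.Modules.pullback k).obj E' ≅ E) ∧
      (∃ (W₁ : X.Opens) (φ₁ : (↑W₁ : Scheme.{u}) ⟶ X₁) (hφ₁ : W₁.ι ≫ p = φ₁ ≫ p₁) (l₁ : U ⟶ ↑W₁),
        IsSchemeTheoreticallyDominant W₁.ι ∧ IsProper φ₁ ∧ l₁ ≫ W₁.ι = k ∧ l₁ ≫ φ₁ = j₁ ∧
        IsClosed (Set.range (fun w => (Limits.pullback.lift W₁.ι φ₁ hφ₁) w))) ∧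
      (∃ (W₂ : X.Opens) (φ₂ : (↑W₂ : Scheme.{u}) ⟶ X₂) (hφ₂ : W₂.ι ≫ p = φ₂ ≫ p₂) (l₂ : U ⟶ ↑W₂),
        IsSchemeTheoreticallyDominant W₂.ι ∧ IsProper φ₂ ∧ l₂ ≫ W₂.ι = k ∧ l₂ ≫ φ₂ = j₂ ∧
        IsClosed (Set.range (fun w => (Limits.pullback.lift W₂.ι φ₂ hφ₂) w))) := by
  haveI := isNoetherian_of_finiteType p₁
  haveI := StrictModLib.isNoetherian_of_openImmersion j₁
  obtain ⟨X, q, _, _, _, j, _, _, hjq, hs₁, hs₂⟩ := exists_pair p₁ p₂ j₁ j₂ hj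
  haveI := isNoetherian_of_finiteType q
  obtain ⟨X', π, j', _, _, hjqc, hjd, hj', E', hE', hE''⟩ := exists_extend_proper j E hE
  refine ⟨X', π ≫ q, j', E', inferInstance, inferInstance, inferInstance, inferInstance, hjqc, hjd,
    by rw [reassoc_of% hj', hjq], hE', hE'', lift_side π q p₁ j₁ j' j hj' hs₁, lift_side π q p₂ j₂ j' j hj' hs₂⟩
where
  lift_side {U X' X Z : Scheme.{u}} (π : X' ⟶ X) [IsProper π] (q : X ⟶ S) [IsSeparated q] (g : Z ⟶ S)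
      (jz : U ⟶ Z) (j' : U ⟶ X') [IsSchemeTheoreticallyDominant j'] (j : U ⟶ X) (hj' : j' ≫ π = j)
      (hs : ∃ (W : X.Opens) (l : U ⟶ (W : Scheme.{u})) (p : (W : Scheme.{u}) ⟶ Z) (_ : W.ι ≫ q = p ≫ g),
        l ≫ W.ι = j ∧ l ≫ p = jz ∧ IsProper p) :
      ∃ (W : X'.Opens) (φ : (↑W : Scheme.{u}) ⟶ Z) (hφ : W.ι ≫ π ≫ q = φ ≫ g) (l : U ⟶ ↑W),
        IsSchemeTheoreticallyDominant W.ι ∧ IsProper φ ∧ l ≫ W.ι = j' ∧ l ≫ φ = jz ∧
        IsClosed (Set.range (fun w => (Limits.pullback.lift W.ι φ hφ) w)) := by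
    obtain ⟨W, l, p, hp, hl, hlp, _⟩ := hs
    have hr : Set.range j' ⊆ Set.range (π ⁻¹ᵁ W).ι := by
      rw [Scheme.Opens.range_ι]
      rintro _ ⟨z, rfl⟩
      show π (j' z) ∈ W
      rw [← Scheme.Hom.comp_apply, hj', ← hl]
      exact (l z).2
    let l' := IsOpenImmersion.lift (π ⁻¹ᵁ W).ι j' hr
    have hl' : l' ≫ (π ⁻¹ᵁ W).ι = j' := IsOpenImmersion.lift_fac _ _ _
    haveI : IsSchemeTheoreticallyDominant (l' ≫ (π ⁻¹ᵁ W).ι) := by rw [hl']; infer_instance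
    have hφ : (π ⁻¹ᵁ W).ι ≫ π ≫ q = ((π ∣_ W) ≫ p) ≫ g := by
      rw [Category.assoc, ← hp, ← morphismRestrict_ι_assoc]
    refine ⟨π ⁻¹ᵁ W, (π ∣_ W) ≫ p, hφ, l', dominant_of_comp l' _, inferInstance, hl', ?_,
      isClosed_range_graph (π ≫ q) g _ _ hφ⟩
    rw [← hlp, ← Category.assoc]
    congr 1
    rw [← cancel_mono W.ι, Category.assoc, morphismRestrict_ι, reassoc_of% hl', hj', hl]

theorem dominant_of_two {U : Scheme.{u}} (σ : U ⟶ X) [QuasiCompact σ] {A B : Scheme.{u}} (a : A ⟶ X) (b : B ⟶ X)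
    [IsOpenImmersion a] [IsOpenImmersion b] (hcov : ∀ x, x ∈ a.opensRange ∨ x ∈ b.opensRange)
    (ja : U ⟶ A) (jb : U ⟶ B) [IsSchemeTheoreticallyDominant ja] [IsSchemeTheoreticallyDominant jb]
    (ha : ja ≫ a = σ) (hb : jb ≫ b = σ) : IsSchemeTheoreticallyDominant σ := by
  have k : ∀ {C : Scheme.{u}} (c : C ⟶ X) [IsOpenImmersion c] (jc : U ⟶ C) [IsSchemeTheoreticallyDominant jc],
      jc ≫ c = σ → σ.ker ≤ c.ker := fun c _ jc _ h => by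
    rw [← h, Scheme.Hom.ker_comp, IsSchemeTheoreticallyDominant.ker_eq_bot jc, Scheme.IdealSheafData.map_bot]
  have hle : ∀ (V : X.affineOpens) {C : Scheme.{u}} (c : C ⟶ X) [IsOpenImmersion c], V.1 ≤ c.opensRange →
      c.ker.ideal V = ⊥ := fun V C c _ hV => by
    refine le_bot_iff.1 ((c.ideal_ker_le V).trans ?_)
    haveI : IsIso (c.app V.1) := c.isIso_app V.1 hV
    exact le_of_eq ((RingHom.injective_iff_ker_eq_bot _).1 (ConcreteCategory.bijective_of_isIso _).1)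
  refine ⟨Scheme.IdealSheafData.ext_of_iSup_eq_top (fun i : {V : X.affineOpens // V.1 ≤ a.opensRange ∨ V.1 ≤ b.opensRange} => i.1) ?_ ?_⟩
  · refine top_le_iff.mp fun x _ => ?_
    rcases hcov x with h | h
    · obtain ⟨V, hV, hxV, hle'⟩ := exists_isAffineOpen_mem_and_subset h
      exact Opens.mem_iSup.mpr ⟨⟨⟨V, hV⟩, Or.inl hle'⟩, hxV⟩
    · obtain ⟨V, hV, hxV, hle'⟩ := exists_isAffineOpen_mem_and_subset h
      exact Opens.mem_iSup.mpr ⟨⟨⟨V, hV⟩, Or.inr hle'⟩, hxV⟩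
  · rintro ⟨V, hV | hV⟩ <;> rw [Scheme.IdealSheafData.ideal_bot, Pi.bot_apply] <;> refine le_bot_iff.1 ?_
    · exact (hle V a hV) ▸ (k a ja ha V)
    · exact (hle V b hV) ▸ (k b jb hb V)

theorem exists_glue_mutual {U X₁ X₂ : Scheme.{u}} [IsNoetherian S]
    (p₁ : X₁ ⟶ S) (p₂ : X₂ ⟶ S) [IsSeparated p₁] [QuasiCompact p₁] [LocallyOfFiniteType p₁]
    [IsSeparated p₂] [QuasiCompact p₂] [LocallyOfFiniteType p₂]
    (j₁ : U ⟶ X₁) (j₂ : U ⟶ X₂) [IsOpenImmersion j₁] [IsOpenImmersion j₂]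
    [IsSchemeTheoreticallyDominant j₁] [IsSchemeTheoreticallyDominant j₂] (hj : j₁ ≫ p₁ = j₂ ≫ p₂)
    (W₁ : X₁.Opens) (φ : (↑W₁ : Scheme.{u}) ⟶ X₂) (hφ : W₁.ι ≫ p₁ = φ ≫ p₂)
    (hφc : IsClosed (Set.range (fun w => (Limits.pullback.lift W₁.ι φ hφ) w)))
    (k₁ : U ⟶ ↑W₁) (hk₁ : k₁ ≫ W₁.ι = j₁) (hk₁' : k₁ ≫ φ = j₂)
    (W₂ : X₂.Opens) (ψ : (↑W₂ : Scheme.{u}) ⟶ X₁) (hψ : W₂.ι ≫ p₂ = ψ ≫ p₁)
    (hψc : IsClosed (Set.range (fun w => (Limits.pullback.lift W₂.ι ψ hψ) w)))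
    (k₂ : U ⟶ ↑W₂) (hk₂ : k₂ ≫ W₂.ι = j₂) (hk₂' : k₂ ≫ ψ = j₁) :
    ∃ (Y : Scheme.{u}) (q : Y ⟶ S) (i₁ : X₁ ⟶ Y) (i₂ : X₂ ⟶ Y), IsSeparated q ∧ QuasiCompact q ∧
      LocallyOfFiniteType q ∧ IsOpenImmersion i₁ ∧ IsOpenImmersion i₂ ∧ i₁ ≫ q = p₁ ∧ i₂ ≫ q = p₂ ∧
      j₁ ≫ i₁ = j₂ ≫ i₂ ∧ QuasiCompact (j₁ ≫ i₁) ∧ IsSchemeTheoreticallyDominant (j₁ ≫ i₁) := by
  haveI := isNoetherian_of_finiteType p₁
  haveI := isNoetherian_of_finiteType p₂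
  haveI : QuasiCompact j₁ := inferInstance
  haveI : QuasiCompact j₂ := inferInstance
  -- the overlaps
  obtain ⟨hl₁, hr₁⟩ := overlap p₁ p₂ j₁ j₂ W₁ φ hφ k₁ hk₁ hk₁' W₂ ψ hψ k₂ hk₂ hk₂'
  obtain ⟨hl₂, hr₂⟩ := overlap p₂ p₁ j₂ j₁ W₂ ψ hψ k₂ hk₂ hk₂' W₁ φ hφ k₁ hk₁ hk₁'
  let A : W₁.toScheme.Opens := φ ⁻¹ᵁ W₂
  let B : W₂.toScheme.Opens := ψ ⁻¹ᵁ W₁
  have hrA : Set.range (φ ∣_ W₂) ⊆ Set.range B.ι := by
    rw [Scheme.Opens.range_ι]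
    rintro _ ⟨z, rfl⟩
    show ψ ((φ ∣_ W₂) z) ∈ W₁
    rw [← Scheme.Hom.comp_apply, hl₁]
    exact (A.ι z).2
  have hrB : Set.range (ψ ∣_ W₁) ⊆ Set.range A.ι := by
    rw [Scheme.Opens.range_ι]
    rintro _ ⟨z, rfl⟩
    show φ ((ψ ∣_ W₁) z) ∈ W₂
    rw [← Scheme.Hom.comp_apply, hl₂]
    exact (B.ι z).2
  let α : (A : Scheme.{u}) ⟶ B := IsOpenImmersion.lift B.ι (φ ∣_ W₂) hrA
  let β : (B : Scheme.{u}) ⟶ A := IsOpenImmersion.lift A.ι (ψ ∣_ W₁) hrB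
  have hα : α ≫ B.ι = φ ∣_ W₂ := IsOpenImmersion.lift_fac _ _ _
  have hβ : β ≫ A.ι = ψ ∣_ W₁ := IsOpenImmersion.lift_fac _ _ _
  have hαW : α ≫ B.ι ≫ W₂.ι = A.ι ≫ φ := by rw [reassoc_of% hα, morphismRestrict_ι]
  have hβW : β ≫ A.ι ≫ W₁.ι = B.ι ≫ ψ := by rw [reassoc_of% hβ, morphismRestrict_ι]
  haveI : IsIso α := ⟨β, by
      rw [← cancel_mono (A.ι ≫ W₁.ι), Category.assoc, hβW, reassoc_of% hα, hl₁, Category.id_comp], by
      rw [← cancel_mono (B.ι ≫ W₂.ι), Category.assoc, hαW, reassoc_of% hβ, hl₂, Category.id_comp]⟩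
  let ka : (A : Scheme.{u}) ⟶ X₁ := A.ι ≫ W₁.ι
  let kb : (A : Scheme.{u}) ⟶ X₂ := α ≫ B.ι ≫ W₂.ι
  have hkb : kb = A.ι ≫ φ := hαW
  have hw : ka ≫ p₁ = kb ≫ p₂ := by simp only [ka, hkb, Category.assoc, hφ]
  haveI : IsImmersion (pullback.lift ka kb hw) := by
    haveI : IsImmersion (pullback.lift ka kb hw ≫ pullback.fst p₁ p₂) := by
      rw [pullback.lift_fst]; infer_instance
    exact IsImmersion.of_comp _ (pullback.fst p₁ p₂)
  let Γφ := pullback.lift W₁.ι φ hφ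
  let Γψ := pullback.lift ψ W₂.ι hψ.symm
  have hΓψc : IsClosed (Set.range (fun w => Γψ w)) := by
    have e : Γψ = pullback.lift W₂.ι ψ hψ ≫ (pullbackSymmetry p₂ p₁).hom := by
      refine pullback.hom_ext ?_ ?_
      · rw [Category.assoc, pullbackSymmetry_hom_comp_fst]; simp only [Γψ]; rw [pullback.lift_fst, pullback.lift_snd]
      · rw [Category.assoc, pullbackSymmetry_hom_comp_snd]; simp only [Γψ]; rw [pullback.lift_snd, pullback.lift_fst]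
    rw [show (fun w => Γψ w) = (pullbackSymmetry p₂ p₁).hom ∘ (fun w => pullback.lift W₂.ι ψ hψ w) from
      funext fun w => by rw [e]; rfl, Set.range_comp]
    exact (pullbackSymmetry p₂ p₁).hom.isClosedEmbedding.isClosedMap _ hψc
  have hrange : Set.range (pullback.lift ka kb hw) = Set.range (fun w => Γφ w) ∩ Set.range (fun w => Γψ w) := by
    have e1 : pullback.lift ka kb hw = A.ι ≫ Γφ := by
      ext
      · simp only [pullback.lift_fst, Category.assoc, Γφ]; rfl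
      · simp only [pullback.lift_snd, Category.assoc, Γφ]; exact hkb
    have e2 : pullback.lift ka kb hw = α ≫ B.ι ≫ Γψ := by
      ext
      · simp only [pullback.lift_fst, Category.assoc, Γψ, reassoc_of% hα]
        exact hl₁.symm
      · simp only [pullback.lift_snd, Category.assoc, Γψ]; rfl
    ext z
    constructor
    · rintro ⟨a, rfl⟩
      exact ⟨⟨A.ι a, by rw [e1]; rfl⟩, ⟨B.ι (α a), by rw [e2]; rfl⟩⟩
    · rintro ⟨⟨w, rfl⟩, ⟨w', hw'⟩⟩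
      have h2 : (W₂.ι w' : X₂) = φ w := by
        have := congrArg (pullback.snd p₁ p₂) hw'
        rwa [← Scheme.Hom.comp_apply, ← Scheme.Hom.comp_apply, pullback.lift_snd, pullback.lift_snd] at this
      exact ⟨⟨w, show φ w ∈ W₂ from h2 ▸ w'.2⟩, by rw [e1]; rfl⟩
  haveI : IsClosedImmersion (pullback.lift ka kb hw) :=
    IsClosedImmersion.of_isPreimmersion _ (hrange ▸ hφc.inter hΓψc)
  obtain ⟨Y₀, q₀, o₁, o₂, _, _, _, _, _, hq₁, hq₂, hko, hsq⟩ :=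
    RGFlatLib.exists_glue_two ka kb p₁ p₂ hw
  haveI := isNoetherian_of_finiteType q₀
  let O : Y₀.Opens := o₁.opensRange ⊔ o₂.opensRange
  have h1 : Set.range o₁ ⊆ Set.range O.ι := by
    rw [Scheme.Opens.range_ι]; exact fun z hz => Or.inl hz
  have h2 : Set.range o₂ ⊆ Set.range O.ι := by
    rw [Scheme.Opens.range_ι]; exact fun z hz => Or.inr hz
  let i₁ := IsOpenImmersion.lift O.ι o₁ h1
  let i₂ := IsOpenImmersion.lift O.ι o₂ h2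
  have hi₁ : i₁ ≫ O.ι = o₁ := IsOpenImmersion.lift_fac _ _ _
  have hi₂ : i₂ ≫ O.ι = o₂ := IsOpenImmersion.lift_fac _ _ _
  haveI : IsOpenImmersion i₁ := by
    haveI : IsOpenImmersion (i₁ ≫ O.ι) := by rw [hi₁]; infer_instance
    exact IsOpenImmersion.of_comp i₁ O.ι
  haveI : IsOpenImmersion i₂ := by
    haveI : IsOpenImmersion (i₂ ≫ O.ι) := by rw [hi₂]; infer_instance
    exact IsOpenImmersion.of_comp i₂ O.ι
  haveI : IsNoetherian (O : Scheme.{u}) := StrictModLib.isNoetherian_of_openImmersion O.ι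
  let l₁ := IsOpenImmersion.lift ka j₁ hr₁
  have hl : l₁ ≫ ka = j₁ := IsOpenImmersion.lift_fac _ _ _
  have hlb : l₁ ≫ kb = j₂ := by
    have hlA : l₁ ≫ A.ι = k₁ := by rw [← cancel_mono W₁.ι, Category.assoc, hl, hk₁]
    rw [hkb, reassoc_of% hlA, hk₁']
  have hji : j₁ ≫ i₁ = j₂ ≫ i₂ := by
    rw [← cancel_mono O.ι]
    simp only [Category.assoc, hi₁, hi₂]
    rw [← hl, ← hlb]
    exact (Category.assoc l₁ ka o₁).trans ((congrArg (l₁ ≫ ·) hko).trans (Category.assoc l₁ kb o₂).symm)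
  haveI : IsNoetherian U := StrictModLib.isNoetherian_of_openImmersion j₁
  haveI : QuasiCompact (j₁ ≫ i₁) := inferInstance
  have hcov : ∀ x, x ∈ i₁.opensRange ∨ x ∈ i₂.opensRange := fun x => by
    rcases x.2 with ⟨a, ha⟩ | ⟨a, ha⟩
    · exact Or.inl ⟨a, O.ι.isOpenEmbedding.injective (by rw [← Scheme.Hom.comp_apply, hi₁]; exact ha)⟩
    · exact Or.inr ⟨a, O.ι.isOpenEmbedding.injective (by rw [← Scheme.Hom.comp_apply, hi₂]; exact ha)⟩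
  refine ⟨O, O.ι ≫ q₀, i₁, i₂, inferInstance, inferInstance, inferInstance, inferInstance, inferInstance,
    by rw [reassoc_of% hi₁, hq₁], by rw [reassoc_of% hi₂, hq₂], hji, inferInstance,
    dominant_of_two (j₁ ≫ i₁) i₁ i₂ hcov j₁ j₂ rfl hji.symm⟩
where
  overlap {U X₁ X₂ : Scheme.{u}} (p₁ : X₁ ⟶ S) (p₂ : X₂ ⟶ S) [IsSeparated p₁]
      (j₁ : U ⟶ X₁) (j₂ : U ⟶ X₂) [QuasiCompact j₁] [IsSchemeTheoreticallyDominant j₁]
      (W₁ : X₁.Opens) (φ : (↑W₁ : Scheme.{u}) ⟶ X₂) (hφ : W₁.ι ≫ p₁ = φ ≫ p₂)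
      (k₁ : U ⟶ ↑W₁) (hk₁ : k₁ ≫ W₁.ι = j₁) (hk₁' : k₁ ≫ φ = j₂)
      (W₂ : X₂.Opens) (ψ : (↑W₂ : Scheme.{u}) ⟶ X₁) (hψ : W₂.ι ≫ p₂ = ψ ≫ p₁)
      (k₂ : U ⟶ ↑W₂) (hk₂ : k₂ ≫ W₂.ι = j₂) (hk₂' : k₂ ≫ ψ = j₁) :
      (φ ∣_ W₂) ≫ ψ = (φ ⁻¹ᵁ W₂).ι ≫ W₁.ι ∧ Set.range j₁ ⊆ Set.range ((φ ⁻¹ᵁ W₂).ι ≫ W₁.ι) := by
    have hr : Set.range k₁ ⊆ Set.range (φ ⁻¹ᵁ W₂).ι := by
      rw [Scheme.Opens.range_ι]
      rintro _ ⟨z, rfl⟩
      show φ (k₁ z) ∈ W₂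
      rw [← Scheme.Hom.comp_apply, hk₁', ← hk₂]
      exact (k₂ z).2
    let l := IsOpenImmersion.lift (φ ⁻¹ᵁ W₂).ι k₁ hr
    have hl : l ≫ (φ ⁻¹ᵁ W₂).ι = k₁ := IsOpenImmersion.lift_fac _ _ _
    have hlo : l ≫ (φ ⁻¹ᵁ W₂).ι ≫ W₁.ι = j₁ := by rw [reassoc_of% hl, hk₁]
    haveI : IsSchemeTheoreticallyDominant (l ≫ (φ ⁻¹ᵁ W₂).ι ≫ W₁.ι) := by rw [hlo]; infer_instance
    haveI : QuasiCompact (l ≫ (φ ⁻¹ᵁ W₂).ι ≫ W₁.ι) := by rw [hlo]; infer_instance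
    haveI := dominant_left l ((φ ⁻¹ᵁ W₂).ι ≫ W₁.ι)
    refine ⟨ModPairLib.ext_of_dominant p₁ l ?_ ?_, ?_⟩
    · simp only [Category.assoc, ← hψ, morphismRestrict_ι_assoc, hφ]
    · have hlk : l ≫ (φ ∣_ W₂) = k₂ := by
        rw [← cancel_mono W₂.ι, Category.assoc, morphismRestrict_ι, reassoc_of% hl, hk₁', hk₂]
      rw [reassoc_of% hlk, hk₂', hlo]
    · rintro _ ⟨z, rfl⟩
      exact ⟨l z, by rw [← Scheme.Hom.comp_apply, hlo]⟩

end QuasiDomLib
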